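import Cfsg.Agent.KZ.Red.Prod

/-!
# KZ: the abelianization of a Sylow subgroup, first consequences of minimality (helper66)
-/

set_option autoImplicit false

namespace Cfsg.Agent.KZ.Red

open Cfsg

universe u v

local instance factThree : Fact (Nat.Prime 3) := ⟨Nat.prime_three⟩

variable {M : Ideal AlgInt}

section

variable {G : Type u} [Group G] [Finite G]

omit [Finite G] in
theorem nab_dvd (P : Sylow 3 G) : nab P ∣ Nat.card ↥(P : Subgroup G) := Subgroup.index_dvd_card _

theorem nab_pow (P : Sylow 3 G) : ∃ k, nab P = 3 ^ k := by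
  obtain ⟨n, hn⟩ := P.2.exists_card_eq
  obtain ⟨k, -, hk⟩ := (Nat.dvd_prime_pow Nat.prime_three).1 (hn ▸ nab_dvd P)
  exact ⟨k, hk⟩

theorem nab_map {H : Type v} [Group H] {f : G →* H} (hf : Function.Surjective f) (P : Sylow 3 G)
    (h : ∀ x : ↥(P : Subgroup G), f x = 1 → x ∈ commutator ↥(P : Subgroup G)) : nab (P.mapSurjective hf) = nab P := by
  have h1 := f.subgroupMap_surjective (P : Subgroup G)
  rw [nab, nab, ← Subgroup.index_map_eq _ h1 fun x hx => h x (congrArg Subtype.val (MonoidHom.mem_ker.1 hx)),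
    map_commutator_eq, MonoidHom.range_eq_top.2 h1]
  rfl

theorem nab_map_dvd {H : Type v} [Group H] {f : G →* H} (hf : Function.Surjective f) (P : Sylow 3 G) :
    nab (P.mapSurjective hf) ∣ nab P := by
  have h1 := f.subgroupMap_surjective (P : Subgroup G)
  have h2 := Subgroup.index_map_dvd (commutator ↥(P : Subgroup G)) h1
  rwa [map_commutator_eq, MonoidHom.range_eq_top.2 h1] at h2

theorem nab_congr (P Q : Sylow 3 G) : nab P = nab Q := by
  have e := P.equiv Q
  rw [nab, nab, ← Subgroup.index_map_equiv _ e]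
  change (Subgroup.map e.toMonoidHom _).index = _
  rw [map_commutator_eq, MonoidHom.range_eq_top.2 e.surjective]
  rfl

omit [Finite G] in
/-- the Sylow subgroup `P` as a Sylow subgroup of an overgroup -/
theorem nab_subtype {H : Subgroup G} (P : Sylow 3 G) (h : (P : Subgroup G) ≤ H) : nab (P.subtype h) = nab P := by
  have e := Subgroup.subgroupOfEquivOfLe h
  rw [nab, nab, Sylow.coe_subtype, ← Subgroup.index_map_equiv _ e]
  change (Subgroup.map e.toMonoidHom _).index = _
  rw [map_commutator_eq, MonoidHom.range_eq_top.2 e.surjective]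
  rfl

end

variable {G : Type} [Group G] [Finite G] {P : Sylow 3 G} {N : Subgroup G}

theorem card_quot_lt {K : Subgroup G} [K.Normal] (hK : K ≠ ⊥) : Nat.card (G ⧸ K) < Nat.card G := by
  rw [Subgroup.card_eq_card_quotient_mul_card_subgroup K]
  exact lt_mul_of_one_lt_right Nat.card_pos ((Subgroup.one_lt_card_iff_ne_bot K).2 hK)

namespace Min

variable (h : Min M G P N)
include h

/-- the abelianization drops in every proper quotient -/
theorem nab_quot {K : Subgroup G} [K.Normal] (hK : K ≠ ⊥) (Q : Sylow 3 (G ⧸ K)) : nab Q < 27 :=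
  lt_of_not_ge fun h1 => by
    have h2 := h.ih _ (card_quot_lt hK) Q h1
    have h3 := k0_le_of_surj h.mod _ (QuotientGroup.mk'_surjective K)
    have h4 := h.le9
    omega

theorem not_le {K : Subgroup G} [K.Normal] (hK : K ≠ ⊥) :
    ∃ x : ↥(P : Subgroup G), (x : G) ∈ K ∧ x ∉ commutator ↥(P : Subgroup G) := by
  by_contra hc
  have h1 := h.nab_quot hK (P.mapSurjective (QuotientGroup.mk'_surjective K))
  rw [nab_map _ _ fun x hx => by_contra fun h2 => hc ⟨x, (QuotientGroup.eq_one_iff _).1 hx, h2⟩] at h1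
  exact absurd h.big (Nat.not_le.2 h1)

theorem three [hN : N.Normal] : 3 ∣ Nat.card ↥N := by_contra fun h1 => h.ne (h.core N hN h1)

/-- an abelian minimal normal subgroup has exponent `3` -/
theorem pow_three [hN : N.Normal] (hab : IsMulCommutative ↥N) {x : G} (hx : x ∈ N) : x ^ 3 = 1 := by
  let K : Subgroup G :=
    { carrier := {x | x ∈ N ∧ x ^ 3 = 1}
      one_mem' := ⟨one_mem _, one_pow _⟩
      mul_mem' := fun {a b} ha hb => ⟨mul_mem ha.1 hb.1, by
        rw [(show Commute a b from congrArg Subtype.val (hab.1.1 ⟨a, ha.1⟩ ⟨b, hb.1⟩)).mul_pow, ha.2, hb.2, mul_one]⟩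
      inv_mem' := fun {a} ha => ⟨inv_mem ha.1, by rw [inv_pow, ha.2, inv_one]⟩ }
  rcases h.min K ⟨fun a ha g => ⟨hN.conj_mem a ha.1 g, by rw [conj_pow, ha.2, mul_one, mul_inv_cancel]⟩⟩
    (fun _ ha => ha.1) with h1 | h1
  · obtain ⟨y, hy⟩ := exists_prime_orderOf_dvd_card' 3 h.three
    have h2 : (y : G) ∈ K := ⟨y.2, by rw [← hy, ← Subgroup.coe_pow, pow_orderOf_eq_one, Subgroup.coe_one]⟩
    rw [h1, Subgroup.mem_bot, OneMemClass.coe_eq_one] at h2
    rw [h2, orderOf_one] at hy
    exact absurd hy (by decide)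
  · exact (h1.ge hx).2

theorem le_sylow [hN : N.Normal] (hab : IsMulCommutative ↥N) : N ≤ (P : Subgroup G) :=
  IsPGroup.le_sylow_of_normal (fun x => ⟨1, Subtype.ext (by simpa using h.pow_three hab x.2)⟩) P

theorem three_factor [N.Normal] {S : Type} [Group S] {m : ℕ} (C : Co N S m) : 3 ∣ Nat.card S :=
  Nat.prime_three.dvd_of_dvd_pow (C.card_eq ▸ h.three)

end Min

end Cfsg.Agent.KZ.Red
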