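import Cfsg.Agent.KZ.Red.Fin
import Cfsg.Agent.S4925

/-!
# KZ: the prime `2` and S4852 from the dichotomy (helper40)
-/

set_option autoImplicit false

namespace Cfsg.Agent.KZ.Res

open Cfsg

universe u

variable {M : Ideal AlgInt} {G : Type u} [Group G] [Finite G]

theorem s4852_two [Fact (Nat.Prime 2)] (hM : IsPModular 2 M) (P : Sylow 2 G) :
    (commutator ↥(P : Subgroup G)).index ≤ 2 ^ 2 ↔ H774.K0.k0 2 M G ≤ 2 ^ 2 := by
  have h1 : H774.K0.k0 2 M G = 4 ↔ _ := S4925.result 2 M hM P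
  have h2 : H774.K0.k0 2 M G = 2 ↔ _ := S4924.result 2 M hM P 2 (.inl rfl)
  have h3 := H774.K0.k0_pos (G := G) hM
  have h4 : (commutator ↥(P : Subgroup G)).index ≠ 0 := Subgroup.index_ne_zero_of_finite
  have h5 : (commutator ↥(P : Subgroup G)).index ∣ Nat.card ↥(P : Subgroup G) := Subgroup.index_dvd_card _
  rcases index_comm_cases P.2 with h6 | h6 | h6
  · refine ⟨fun h => (h1.2 (.inl (le_antisymm h (Nat.le_of_dvd (Nat.pos_of_ne_zero h4) h6)))).le, fun h => ?_⟩
    have h7 := H774.K0.even_k0 (G := G) hM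
      (((by norm_num : 2 ∣ 2 ^ 2).trans (h6.trans h5)).trans (Subgroup.card_subgroup_dvd_card _))
    have h8 := h6.trans h5
    rcases (by omega : H774.K0.k0 2 M G = 2 ∨ H774.K0.k0 2 M G = 4) with h9 | h9
    · have := h2.1 h9
      omega
    · rcases h1.1 h9 with h10 | h10
      · exact h10.le
      · have := h10.1
        omega
  · have := H774.K0.k0_eq_one hM (not_dvd_of_sylow P h6.2)
    omega
  · have := h2.2 h6.2
    omega

theorem s4852_of (h : AllDich) (p : ℕ) [Fact p.Prime] (hp : p = 2 ∨ p = 3) (hM : IsPModular p M) (P : Sylow p G) :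
    (commutator ↥(P : Subgroup G)).index ≤ p ^ 2 ↔ H774.K0.k0 p M G ≤ p ^ 2 := by
  rcases hp with rfl | rfl
  · exact s4852_two hM P
  · exact s4852_three h hM P

end Cfsg.Agent.KZ.Res
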