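import Cfsg.Agent.KZ.Tool.Res2
import Cfsg.Agent.KZ.Red.Nab
import Cfsg.Agent.Blocks.PrincipalInflate
import Cfsg.Agent.Lib.FrattiniBasic
import Cfsg.Agent.S0029
import Cfsg.Agent.S0135
import Cfsg.Agent.S4587
import Cfsg.Agent.S4588

/-!
# KZ: the reduction (U) (helper40)

`k0_quot_of_coprime`, `k0_quot_of_le_comm`: the number of members does not change modulo a normal subgroup of order prime
to `3` or modulo a normal subgroup inside `P'`.  `redU : RedU`.
-/

set_option autoImplicit false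

namespace Cfsg.Agent.KZ.Res

open Cfsg Cfsg.Agent.KZ.Tool Cfsg.Agent.KZ.Red Cfsg.Agent.Characters.Core Cfsg.Agent.Blocks.Basic

universe u v

attribute [local instance] factThree

variable {M : Ideal AlgInt} {G : Type u} [Group G] [Finite G]

/-- a kernel of order prime to `3` -/
theorem k0_of_ker_coprime (hM : IsPModular 3 M) {H : Type v} [Group H] (f : G →* H) (hf : Function.Surjective f)
    (h3 : ¬ 3 ∣ Nat.card ↥f.ker) : k0 M G = k0 M H := by
  have : Finite H := Finite.of_surjective f hf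
  have : Finite (IrrCharacter H) := finite_irr
  refine le_antisymm ?_ (k0_le_of_surj hM f hf)
  rw [k0_eq, k0_eq]
  refine Nat.card_le_card_of_surjective (fun χ => ⟨pull f hf χ.1, mem_pull hM f hf χ.2⟩) fun ψ => ?_
  obtain ⟨χ, h1, h2⟩ := Blocks.PrincipalInflate.exists_comp hM hf h3 ψ.2.1
  have h4 : pull f hf χ = ψ.1 := Subtype.ext h2.symm
  exact ⟨⟨χ, h1, by rw [← pull_deg f hf, h4]; exact ψ.2.2⟩, Subtype.ext h4⟩

theorem k0_quot_of_coprime (hM : IsPModular 3 M) (K : Subgroup G) [K.Normal] (h3 : ¬ 3 ∣ Nat.card ↥K) :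
    k0 M G = k0 M (G ⧸ K) :=
  k0_of_ker_coprime hM (QuotientGroup.mk' K) (QuotientGroup.mk'_surjective K) (by rwa [QuotientGroup.ker_mk'])

theorem nab_of_ker_coprime {H : Type v} [Group H] (f : G →* H) (hf : Function.Surjective f)
    (h3 : ¬ 3 ∣ Nat.card ↥f.ker) (P : Sylow 3 G) : nab (P.mapSurjective hf) = nab P :=
  nab_map hf P fun x hx => by
    obtain ⟨k, hk⟩ := IsPGroup.iff_orderOf.1 P.2 x
    have h1 : orderOf x ∣ Nat.card ↥f.ker := by
      rw [← Subgroup.orderOf_coe]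
      exact Subgroup.orderOf_dvd_natCard f.ker hx
    rw [orderOf_eq_one_iff.1 (Nat.eq_one_of_dvd_coprimes
      (Nat.Coprime.pow_left k ((Nat.Prime.coprime_iff_not_dvd Nat.prime_three).2 h3)) hk.dvd h1)]
    exact one_mem _

theorem deg_dvd_card (χ : IrrCharacter G) : charDegree (χ : G → ℂ) ∣ Nat.card G := by
  obtain ⟨_, n, ρ, hρ, rfl⟩ := χ
  have h2 : charDegree ρ.character = Module.finrank ℂ (Fin n → ℂ) := by
    rw [charDegree, Representation.char_one]
    simp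
  exact h2 ▸ S0135.result ρ

/-- a character of degree prime to `3` has a linear constituent on a `3`-subgroup -/
theorem exists_linear_under {P : Subgroup G} (hP : IsPGroup 3 ↥P) {χ : IrrCharacter G} (h : ¬ 3 ∣ charDegree (χ : G → ℂ)) :
    ∃ (l : IrrCharacter ↥P) (f : ↥P →* ℂˣ), Over P χ l ∧ ∀ x, (l : ↥P → ℂ) x = f x := by
  obtain ⟨θ, h1, h2, h3⟩ := H672.exists_under_not_dvd P.subtype χ.2 h
  have h4 := deg_dvd_card ⟨θ, h1⟩
  obtain ⟨k, hk⟩ := IsPGroup.iff_card.1 hP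
  rw [hk] at h4
  have h5 : charDegree θ = 1 := Nat.Coprime.eq_one_of_dvd
    (Nat.Coprime.pow_right k ((Nat.Prime.coprime_iff_not_dvd Nat.prime_three).2 h3).symm) h4
  obtain ⟨f, hf⟩ := Characters.Linear.exists_hom_of_isIrrCharacter h1 (by rw [irr_one_eq_charDegree h1, h5, Nat.cast_one])
  exact ⟨⟨θ, h1⟩, f, h2, congrFun hf⟩

/-- a normal subgroup inside `P'` is in the kernel of the characters of degree prime to `3` -/
theorem over_triv_of_le_comm {P K : Subgroup G} [K.Normal] (hP : IsPGroup 3 ↥P) (hK : K ≤ ⁅P, P⁆) {χ : IrrCharacter G}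
    (h : ¬ 3 ∣ charDegree (χ : G → ℂ)) : Over K χ (triv ↥K) := by
  obtain ⟨l, f, h1, h2⟩ := exists_linear_under hP h
  refine over_of_sub (hK.trans (Subgroup.commutator_le_self P)) (fun n => ?_) h1
  obtain ⟨x, hx, e⟩ : (n : G) ∈ (commutator ↥P).map P.subtype := by
    rw [Subgroup.map_subtype_commutator]
    exact hK n.2
  rw [h2, show (⟨n, _⟩ : ↥P) = x from Subtype.ext e.symm, Abelianization.commutator_subset_ker f hx]
  rfl

/-- elements of order prime to `p` lift to such elements -/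
theorem exists_regular_lift {H : Type v} [Group H] (f : G →* H) (hf : Function.Surjective f) {p : ℕ} (hp : p.Prime)
    {y : H} (hy : ¬ p ∣ orderOf y) : ∃ x : G, f x = y ∧ ¬ p ∣ orderOf x := by
  obtain ⟨x, rfl⟩ := hf y
  obtain ⟨a, b, hb, h⟩ := Nat.exists_eq_pow_mul_and_not_dvd (orderOf_pos x).ne' p hp.ne_one
  obtain ⟨k, h1, h2⟩ := Nat.chineseRemainder (Nat.Coprime.pow_left a ((hp.coprime_iff_not_dvd).2 hy)) 0 1
  refine ⟨x ^ k, by rw [map_pow, pow_eq_pow_iff_modEq.2 h2, pow_one], fun h3 => hb (h3.trans ?_)⟩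
  rw [orderOf_dvd_iff_pow_eq_one, ← pow_mul, ← orderOf_dvd_iff_pow_eq_one, h]
  exact Nat.mul_dvd_mul_right ((Nat.modEq_zero_iff_dvd).1 h1) b

/-- an element of order prime to `3` which centralises `P` modulo `P'` centralises `P` -/
theorem mem_cent_of_comm {P : Subgroup G} (hP : IsPGroup 3 ↥P) {x : G} (hx : ¬ 3 ∣ orderOf x)
    (h : ∀ g ∈ P, x * g * x⁻¹ * g⁻¹ ∈ ⁅P, P⁆) : x ∈ Subgroup.centralizer (P : Set G) := by
  have hle : ⁅P, P⁆ ≤ P := Subgroup.commutator_le_self P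
  have h1 : ∀ g ∈ P, x * g * x⁻¹ ∈ P := fun g hg => by simpa using mul_mem (hle (h g hg)) hg
  have h2 : x ∈ Subgroup.normalizer (P : Set G) := Subgroup.mem_normalizer_fintype (S := (P : Set G)) h1
  have h3 : ∀ k : ℕ, ∀ g ∈ P, x ^ k * g * (x ^ k)⁻¹ * g⁻¹ ∈ ⁅P, P⁆ := fun k => by
    induction k with
    | zero => intro g _; simp
    | succ k ih =>
      intro g hg
      have := mul_mem (ih _ (h1 g hg)) (h g hg)
      rwa [show x ^ k * (x * g * x⁻¹) * (x ^ k)⁻¹ * (x * g * x⁻¹)⁻¹ * (x * g * x⁻¹ * g⁻¹) =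
        x ^ (k + 1) * g * (x ^ (k + 1))⁻¹ * g⁻¹ by group] at this
  refine S0029.result (Subgroup.zpowers x) P (Subgroup.zpowers_le.2 h2) ?_ (fun a ha g hg => ?_) (Subgroup.mem_zpowers x)
  · obtain ⟨k, hk⟩ := IsPGroup.iff_card.1 (hP.to_subgroup (frattini ↥P))
    rw [Nat.card_zpowers, hk]
    exact Nat.Coprime.pow_right k ((Nat.Prime.coprime_iff_not_dvd Nat.prime_three).2 hx).symm
  · obtain ⟨k, rfl⟩ := (mem_powers_iff_mem_zpowers.2 ha : a ∈ Submonoid.powers x)
    refine Subgroup.map_mono (Lib.FrattiniBasic.commutator_le_frattini hP) ?_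
    rw [Subgroup.map_subtype_commutator]
    exact h3 k g hg

/-- a normal subgroup inside `P'` -/
theorem k0_quot_of_le_comm (hM : IsPModular 3 M) (P : Sylow 3 G) (K : Subgroup G) [K.Normal]
    (hK : K ≤ ⁅(P : Subgroup G), (P : Subgroup G)⁆) : k0 M G = k0 M (G ⧸ K) := by
  have : Finite (IrrCharacter (G ⧸ K)) := finite_irr
  have hf := QuotientGroup.mk'_surjective K
  refine le_antisymm ?_ (k0_le_of_surj hM _ hf)
  rw [k0_eq, k0_eq]
  refine Nat.card_le_card_of_surjective (fun χ => ⟨pull _ hf χ.1, mem_pull hM _ hf χ.2⟩) fun ψ => ?_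
  obtain ⟨χ, h1⟩ := exists_pull_of_over_triv (over_triv_of_le_comm P.2 hK ψ.2.2)
  refine ⟨⟨χ, mem_of_pull hM _ hf P (fun y hy h3 => ?_) (h1 ▸ ψ.2)⟩, Subtype.ext h1.symm⟩
  obtain ⟨x, rfl, hx⟩ := exists_regular_lift _ hf Nat.prime_three h3
  refine ⟨x, mem_cent_of_comm P.2 hx fun g hg => hK ?_, rfl⟩
  have h2 : (g : G ⧸ K) * x = x * g := hy _ ⟨g, hg, rfl⟩
  rw [← QuotientGroup.eq_one_iff, QuotientGroup.mk_mul, QuotientGroup.mk_mul, QuotientGroup.mk_mul, ← h2,
    QuotientGroup.mk_inv, QuotientGroup.mk_inv]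
  group

theorem nab_quot_of_le_comm (P : Sylow 3 G) (K : Subgroup G) [K.Normal] (hK : K ≤ ⁅(P : Subgroup G), (P : Subgroup G)⁆) :
    nab (P.mapSurjective (QuotientGroup.mk'_surjective K)) = nab P :=
  nab_map _ P fun x hx => by
    have h := hK ((QuotientGroup.eq_one_iff _).1 hx)
    rw [← Subgroup.map_subtype_commutator] at h
    obtain ⟨y, hy, e⟩ := h
    rwa [← Subtype.ext e]

omit [Finite G] in
theorem nab_eq_relIndex (P : Sylow 3 G) : nab P = (⁅(P : Subgroup G), (P : Subgroup G)⁆).relIndex (P : Subgroup G) := by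
  rw [nab, Subgroup.relIndex, ← Subgroup.map_subtype_commutator, Subgroup.subgroupOf,
    Subgroup.comap_map_eq_self_of_injective (Subgroup.subtype_injective _)]

/-- **(U)** -/
theorem redU : RedU := by
  intro R M hM
  suffices h : ∀ (n : ℕ) (G : Type) [Group G] [Finite G], Nat.card G = n → ∀ P : Sylow 3 G, nab P = 9 → k0 M G ≤ 9 from
    fun G _ _ => h _ G rfl
  intro n
  induction n using Nat.strong_induction_on with
  | _ n ih =>
  rintro G _ _ rfl P hP
  by_cases h1 : ∃ K : Subgroup G, K.Normal ∧ ¬ 3 ∣ Nat.card ↥K ∧ K ≠ ⊥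
  · obtain ⟨K, _, h2, h3⟩ := h1
    rw [k0_quot_of_coprime hM K h2]
    exact ih _ (card_quot_lt h3) _ rfl _
      ((nab_of_ker_coprime _ (QuotientGroup.mk'_surjective K) (by rwa [QuotientGroup.ker_mk']) P).trans hP)
  have h2 : ∀ K : Subgroup G, K.Normal → ¬ 3 ∣ Nat.card ↥K → K = ⊥ := fun K h3 h4 =>
    by_contra fun h5 => h1 ⟨K, h3, h4, h5⟩
  by_cases h3 : (⁅(P : Subgroup G), (P : Subgroup G)⁆).normalCore = ⊥
  swap
  · rw [k0_quot_of_le_comm hM P _ (Subgroup.normalCore_le _)]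
    exact ih _ (card_quot_lt h3) _ rfl _ ((nab_quot_of_le_comm P _ (Subgroup.normalCore_le _)).trans hP)
  by_cases h4 : ∃ S : Subgroup G, S.Normal ∧ IsSimpleGroup S ∧ ¬ IsMulCommutative S ∧
    Subgroup.centralizer (S : Set G) = ⊥
  · obtain ⟨S, h5, h6, h7, h8⟩ := h4
    refine R.up M hM G S ⟨h5, h6, h7, h8, by_contra fun h9 => h7 ?_⟩ trivial P hP
    rw [h2 S h5 h9]
    infer_instance
  · obtain ⟨x, h5, h6⟩ := (S4587.result 3 P ((hP ▸ nab_dvd P).trans (Subgroup.card_subgroup_dvd_card _))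
      (sSup_eq_bot.2 fun K hK => h2 K hK.1 ((Nat.Prime.coprime_iff_not_dvd Nat.prime_three).1 hK.2.symm)) h3 h4).1
      ((nab_eq_relIndex P).symm.trans hP)
    exact S4588.result 3 M hM ⟨x, h5, h6.le⟩

end Cfsg.Agent.KZ.Res
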