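import Cfsg.Agent.KZ.Red.Nab
import Cfsg.Agent.H125.PC.Ten
import Cfsg.Agent.CharDeep.TransferExt

/-!
# KZ: case C of the reduction (helper66)
-/

set_option autoImplicit false

namespace Cfsg.Agent.KZ.Red

open Cfsg Cfsg.Agent.Characters.Core Cfsg.Agent.Blocks.Local Cfsg.Agent.KZ.Tool

universe u v

attribute [local instance] factThree

variable {M : Ideal AlgInt}

theorem isIrr_of_comp {X : Type u} {Y : Type v} [Group X] [Group Y] [Finite X] [Finite Y] (f : Y →* X)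
    {χ : X → ℂ} (hχ : IsCharacter X χ) (h : IsIrrCharacter Y (χ ∘ f)) : IsIrrCharacter X χ := by
  obtain ⟨n, ρ, rfl⟩ := hχ
  exact isIrrCharacter_of_rep ρ (CharDeep.LinearChar.isIrreducible_of_comp f ρ
    (isIrreducible_of_isIrrCharacter (ρ.comp f : Representation ℂ Y _) h))

/-- a linear character -/
noncomputable def lin {G : Type u} [Group G] (φ : G →* ℂˣ) : IrrCharacter G :=
  ⟨fun g => (φ g : ℂ), CharDeep.LinearChar.isIrrCharacter_of_hom φ⟩

/-- a linear character of `3`-power order is a member -/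
theorem mem_lin {G : Type u} [Group G] [Finite G] (hM : IsPModular 3 M) {φ : G →* ℂˣ} {k : ℕ}
    (h : ∀ g, φ g ^ 3 ^ k = 1) : Mem M (lin φ) := by
  have := isPrime_of_isPModular hM
  refine (mem_iff hM default _).2 ⟨?_, fun x _ hx => ?_⟩
  · rw [H672.charDegree_of_eq (n := 1) (by simp [lin])]
    decide
  · have h1 : φ x = 1 := by
      rw [← orderOf_eq_one_iff]
      exact Nat.eq_one_of_dvd_coprimes (Nat.Coprime.pow_left k ((Nat.Prime.coprime_iff_not_dvd Nat.prime_three).2 hx))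
        (orderOf_dvd_of_pow_eq_one (h x)) (orderOf_map_dvd φ x)
    change MemLocalIdeal M ((φ x : ℂ) - (φ 1 : ℂ))
    rw [h1, map_one, sub_self]
    exact memLocalIdeal_zero

section

variable {G : Type} [Group G] [Finite G] {P : Sylow 3 G} {N : Subgroup G} [hN : N.Normal]

theorem Min.six (h : Min M G P N) (h9 : 9 ∣ N.index) : 6 ≤ cc M N (triv ↥N) :=
  (six_le_k0 h.mod h9).trans (k0_quot_le_cc_triv h.mod)

theorem Min.of_six (h : Min M G P N) (h9 : 9 ∣ N.index) {θ : IrrCharacter ↥N} (h1 : θ ≠ triv ↥N)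
    (h6 : 6 ≤ cc M N θ) : False := by
  have h2 := two_cc_le (M := M) (θ₁ := triv ↥N) (θ₂ := θ) (fun e => h1 e.eq_triv) fun e => h1 e.symm.eq_triv
  have h3 := h.six h9
  have h4 := h.le9
  omega

theorem caseC_ab (h : Min M G P N) (h9 : 9 ∣ N.index) (hab : IsMulCommutative ↥N) : False := by
  obtain ⟨x, hxN, hx⟩ := h.not_le h.ne
  have hNP := h.le_sylow hab
  have : NeZero (Monoid.exponent (Abelianization ↥(P : Subgroup G))) := ⟨Monoid.exponent_ne_zero_of_finite⟩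
  obtain ⟨φ, hφ⟩ := CommGroup.exists_apply_ne_one_of_hasEnoughRootsOfUnity (Abelianization ↥(P : Subgroup G)) ℂ
    (a := Abelianization.of x) fun e => hx (by rwa [← Abelianization.ker_of, MonoidHom.mem_ker])
  let l : ↥(P : Subgroup G) →* ℂˣ := φ.comp Abelianization.of
  let θ : IrrCharacter ↥N := lin (l.comp (Subgroup.inclusion hNP))
  obtain ⟨T, hT, hNT⟩ := exists_inertia θ
  have hP : (P : Subgroup G) ≤ T := fun g hg => (hT g).2 fun n => by
    have h1 : Subgroup.inclusion hNP (MulAut.conjNormal g n) = ⟨g, hg⟩ * Subgroup.inclusion hNP n * (⟨g, hg⟩)⁻¹ := rfl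
    change (l (Subgroup.inclusion hNP (MulAut.conjNormal g n)) : ℂ) = l (Subgroup.inclusion hNP n)
    rw [h1, map_mul, map_mul, map_inv, mul_inv_cancel_comm]
  let μ : ↥((P : Subgroup G).subgroupOf T) →* ℂˣ := l.comp (Subgroup.subgroupOfEquivOfLe hP).toMonoidHom
  obtain ⟨k, hk⟩ := P.2.exists_card_eq
  have h3 : ¬ 3 ∣ ((P : Subgroup G).subgroupOf T).index := fun e =>
    P.not_dvd_index (e.trans (Subgroup.relIndex_dvd_index_of_le hP))
  refine h.of_six h9 (θ := θ) (fun e => hφ (Units.ext (congrFun (congrArg Subtype.val e) ⟨x, hxN⟩)))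
    (six_le_cc h.mod P hT hNT hP h9 (η := lin (MonoidHom.transfer μ ^ ((P : Subgroup G).subgroupOf T).index))
      (mem_lin h.mod (k := k) fun g => ?_) fun n => ?_)
  · rw [MonoidHom.pow_apply, ← pow_mul, mul_comm, pow_mul,
      CharDeep.TransferExt.transfer_pow_eq_one μ _ (fun y => ?_), one_pow]
    change l _ ^ _ = 1
    rw [← map_pow, ← hk, pow_card_eq_one', map_one]
  · have h4 : MonoidHom.transfer μ ⟨n, hNT n.2⟩ = l (Subgroup.inclusion hNP n) ^ ((P : Subgroup G).subgroupOf T).index :=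
      CharDeep.TransferExt.transfer_apply_of_mem (N.subgroupOf T) (Subgroup.comap_mono hNP) μ
      (fun g y hy => Units.ext ((hT g).1 g.2 ⟨y, hy⟩)) ⟨n, hNT n.2⟩ n.2
    have h5 : l (Subgroup.inclusion hNP n) ^ 3 = 1 := by
      rw [← map_pow, show Subgroup.inclusion hNP n ^ 3 = 1 from Subtype.ext (h.pow_three hab n.2), map_one]
    refine congrArg Units.val (?_ : (MonoidHom.transfer μ ^ _) _ = l (Subgroup.inclusion hNP n))
    rw [MonoidHom.pow_apply, h4, ← pow_mul]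
    generalize ((P : Subgroup G).subgroupOf T).index = d at h3
    obtain ⟨r, hr⟩ : ∃ r, d * d = 3 * r + 1 := by
      obtain ⟨s, rfl | rfl⟩ : ∃ s, d = 3 * s + 1 ∨ d = 3 * s + 2 := ⟨d / 3, by omega⟩
      · exact ⟨3 * s * s + 2 * s, by ring⟩
      · exact ⟨3 * s * s + 4 * s + 1, by ring⟩
    rw [hr, pow_succ, pow_mul, h5, one_pow, one_mul]

end

section

variable {S : Type u} [Group S] [Finite S]

omit [Finite S] in
/-- the stabilizer of a character in the automorphism group -/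
def stab (α : IrrCharacter S) : Subgroup (MulAut S) where
  carrier := {σ | tw σ α = α}
  one_mem' := rfl
  mul_mem' := fun {σ τ} (h : tw σ α = α) (h' : tw τ α = α) => (by rw [tw_mul, h, h'] : tw (σ * τ) α = α)
  inv_mem' := fun {σ} (h : tw σ α = α) => (by
    conv_lhs => rw [← h, ← tw_mul, mul_inv_cancel, tw_one] : tw σ⁻¹ α = α)

omit [Finite S] in
theorem conj_mem_stab (α : IrrCharacter S) (s : S) : MulAut.conj s ∈ stab α :=
  tw_eq_iff.2 fun t => isIrr_isClassFunction α.2 t s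

theorem exists_ext_stab [IsSimpleGroup S] (hna : ¬ IsMulCommutative S) {α : IrrCharacter S} {σ₀ : MulAut S}
    (h : ∀ σ : MulAut S, Fixes σ α → ∃ (j : ℕ) (s : S), σ = σ₀ ^ j * MulAut.conj s) :
    ∃ ψ : ↥(stab α) → ℂ, IsCharacter _ ψ ∧ ∀ s, ψ ⟨MulAut.conj s, conj_mem_stab α s⟩ = (α : S → ℂ) s := by
  have hI : (MulAut.conj : S →* MulAut S).range.Normal := ⟨by
    rintro _ ⟨s, rfl⟩ σ
    exact ⟨σ s, MulEquiv.ext fun t => by simp⟩⟩
  let φ : ↥(stab α) →* MulAut S ⧸ (MulAut.conj : S →* MulAut S).range := (QuotientGroup.mk' _).comp (stab α).subtype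
  have h1 : IsCyclic (↥(stab α) ⧸ φ.ker) := by
    have h2 : φ.range ≤ Subgroup.zpowers (QuotientGroup.mk' _ σ₀) := by
      rintro _ ⟨σ, rfl⟩
      obtain ⟨j, s, hs⟩ := h σ (tw_eq_iff.1 σ.2)
      refine ⟨j, ?_⟩
      change QuotientGroup.mk' _ σ₀ ^ (j : ℤ) = QuotientGroup.mk' _ (σ : MulAut S)
      rw [hs, map_mul, zpow_natCast, map_pow, QuotientGroup.mk'_apply _ (MulAut.conj s),
        (QuotientGroup.eq_one_iff _).2 (MonoidHom.mem_range.2 ⟨s, rfl⟩), mul_one]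
    have := Subgroup.isCyclic_of_le h2
    exact isCyclic_of_injective (QuotientGroup.quotientKerEquivRange φ).toMonoidHom
      (QuotientGroup.quotientKerEquivRange φ).injective
  let ι : S →* ↥φ.ker := ((MulAut.conj : S →* MulAut S).codRestrict _ (conj_mem_stab α)).codRestrict _ fun s =>
    MonoidHom.mem_ker.2 ((QuotientGroup.eq_one_iff _).2 ⟨s, rfl⟩)
  have h2 : Function.Bijective ι := by
    constructor
    · rw [← MonoidHom.ker_eq_bot_iff]
      refine ι.normal_ker.eq_bot_or_eq_top.resolve_right fun e => hna ⟨⟨fun a b => ?_⟩⟩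
      have h3 : MulAut.conj a = 1 := congrArg (fun x : ↥φ.ker => ((x : ↥(stab α)) : MulAut S))
        (MonoidHom.mem_ker.1 (e ▸ Subgroup.mem_top a : a ∈ ι.ker))
      exact mul_inv_eq_iff_eq_mul.1 (DFunLike.congr_fun h3 b)
    · rintro ⟨σ, hσ⟩
      obtain ⟨s, hs⟩ := (QuotientGroup.eq_one_iff _).1 (MonoidHom.mem_ker.1 hσ)
      exact ⟨s, Subtype.ext (Subtype.ext hs)⟩
  let e := MulEquiv.ofBijective ι h2
  have : Finite (MulAut S) := Finite.of_injective _ DFunLike.coe_injective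
  obtain ⟨ψ, h3, h4⟩ := S0886.result φ.ker h1 _ (isIrr_comp e.symm.toMonoidHom e.symm.surjective α.2) fun g n => by
    obtain ⟨s, rfl⟩ := e.surjective n
    have h5 : (⟨g * e s * g⁻¹, φ.normal_ker.conj_mem _ (e s).2 g⟩ : ↥φ.ker) = e ((g : MulAut S) s) :=
      Subtype.ext (Subtype.ext (MulEquiv.ext fun t => by
        change (g : MulAut S) (s * (g : MulAut S)⁻¹ t * s⁻¹) = (g : MulAut S) s * t * ((g : MulAut S) s)⁻¹
        simp))
    rw [h5]
    change (α : S → ℂ) (e.symm (e _)) = (α : S → ℂ) (e.symm (e _))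
    rw [MulEquiv.symm_apply_apply, MulEquiv.symm_apply_apply]
    exact tw_eq_iff.1 g.2 s
  refine ⟨ψ, isIrr_isCharacter h3, fun s => (h4 (e s)).trans ?_⟩
  change (α : S → ℂ) (e.symm (e _)) = _
  rw [MulEquiv.symm_apply_apply]

variable {G : Type u} [Group G] [Finite G] {N : Subgroup G} [N.Normal] {m : ℕ} (C : Co N S m)

/-- **tensor induction**: an extension of the product character to its inertia group -/
theorem Co.exists_ext [Nontrivial S] {α : IrrCharacter S} {ψ : ↥(stab α) → ℂ} (hψ : IsCharacter _ ψ)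
    (hψα : ∀ s, ψ ⟨MulAut.conj s, conj_mem_stab α s⟩ = (α : S → ℂ) s) {f : Fin m → IrrCharacter S}
    (hf : ∀ i, f i = triv S ∨ ∃ σ, f i = tw σ α) {T : Subgroup G} (hNT : N ≤ T) (hT : InvU N T (C.pc f)) :
    ∃ η : IrrCharacter ↥T, (∀ n : ↥N, (η : ↥T → ℂ) ⟨n, hNT n.2⟩ = (C.pc f : ↥N → ℂ) n) ∧
      ∀ x : ↥T, (∀ i, C.π x i = i) → (∀ i, C.a x i = 1) → (η : ↥T → ℂ) x = (η : ↥T → ℂ) 1 := by
  classical
  have : Finite (MulAut S) := Finite.of_injective _ DFunLike.coe_injective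
  have h1 : ∀ (t : ↥T) i, tw (C.a t i) (f (C.π t i)) = f i := fun t => C.fixes_iff.1 (hT t t.2)
  choose σ hσ using fun i : {i // f i ≠ triv S} => (hf i.1).resolve_left i.2
  let act : MulAction ↥T {i // f i ≠ triv S} :=
    { smul := fun t i => ⟨C.π t i.1, fun e => i.2 (by rw [← h1 t, e, tw_triv])⟩
      one_smul := fun i => Subtype.ext (by
        change C.π 1 i.1 = i.1
        rw [map_one, Equiv.Perm.one_apply])
      mul_smul := fun s t i => Subtype.ext (by
        change C.π (s * t) i.1 = C.π s (C.π t i.1)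
        rw [map_mul, Equiv.Perm.mul_apply]) }
  let b : ↥T → {i // f i ≠ triv S} → ↥(stab α) := fun t i => ⟨σ (t • i) * C.a t i.1 * (σ i)⁻¹, by
    change tw _ α = α
    rw [tw_mul, tw_mul, ← hσ]
    change tw _ (tw _ (f (C.π t i.1))) = α
    rw [h1, hσ, ← tw_mul, mul_inv_cancel, tw_one]⟩
  obtain ⟨Ψ, hΨ, h2, -⟩ := H125.PC.exists_ten (MulAction.toPermHom ↥T {i // f i ≠ triv S}) b (fun s t i => Subtype.ext (by
    change σ ((s * t) • i) * C.a (s * t) i.1 * (σ i)⁻¹ =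
      σ (s • t • i) * C.a s (C.π t i.1) * (σ (t • i))⁻¹ * (σ (t • i) * C.a t i.1 * (σ i)⁻¹)
    rw [mul_smul, C.a_mul]
    group)) hψ
  have h3 : ∀ x : ↥T, (∀ i, C.π x i = i) → (∀ i : {i // f i ≠ triv S}, x • i = i) ∧ Ψ x = ∏ i, ψ (b x i) := fun x hx =>
    ⟨fun i => Subtype.ext (hx i.1), h2 x (Equiv.ext fun i => Subtype.ext (hx i.1))⟩
  have h4 : ∀ n : ↥N, Ψ ⟨n, hNT n.2⟩ = (C.pc f : ↥N → ℂ) n := fun n => by
    obtain ⟨h5, h6⟩ := h3 ⟨n, hNT n.2⟩ fun i => by rw [C.π_mem, Equiv.Perm.one_apply]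
    rw [h6, C.pc_apply, ← Finset.prod_filter_of_ne (p := fun i => f i ≠ triv S) fun i _ h e => h (by rw [e]; rfl),
      Finset.prod_subtype (p := fun i => f i ≠ triv S) _ (by simp)]
    refine Finset.prod_congr rfl fun i _ => ?_
    rw [hσ, tw_apply, ← hψα]
    refine congrArg ψ (Subtype.ext ?_)
    change σ (_ • i) * C.a n i.1 * (σ i)⁻¹ = _
    rw [h5, C.a_mem]
    exact MulEquiv.ext fun t => by simp
  refine ⟨⟨Ψ, isIrr_of_comp (Subgroup.inclusion hNT) hΨ ?_⟩, h4, fun x hx hx' => ?_⟩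
  · rw [show Ψ ∘ Subgroup.inclusion hNT = (C.pc f : ↥N → ℂ) from funext h4]
    exact (C.pc f).2
  · have h5 : ∀ y : ↥T, (∀ i, C.π y i = i) → (∀ i, C.a y i = 1) → Ψ y = ∏ _i : {i // f i ≠ triv S}, ψ 1 := fun y hy hy' => by
      rw [(h3 y hy).2]
      refine Finset.prod_congr rfl fun i _ => congrArg ψ (Subtype.ext ?_)
      change σ (y • i) * C.a y i.1 * (σ i)⁻¹ = 1
      rw [(h3 y hy).1, hy', mul_one, mul_inv_cancel]
    exact (h5 x hx hx').trans (h5 1 (fun i => by rw [OneMemClass.coe_one, map_one, Equiv.Perm.one_apply]) C.a_one).symm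

end

theorem caseC : CaseC := by
  intro R M G _ _ P N _ h h9
  by_cases hab : IsMulCommutative ↥N
  · exact caseC_ab h h9 hab
  have hM := h.mod
  have := isPrime_of_isPModular hM
  obtain ⟨S, _, _, m, hm, hS, hna, ⟨C⟩⟩ := exists_co N h.min hab
  have h3 := h.three_factor C
  let o : Fin m := ⟨0, hm⟩
  have hP : ¬ (P : Subgroup G) ≤ N := fun e =>
    P.not_dvd_index (((by decide : 3 ∣ 9).trans h9).trans (Subgroup.index_dvd_of_le e))
  have key : ∀ α : IrrCharacter S, Mem M α → Nontriv α → (∀ σ ∈ C.ind (P : Subgroup G) o, Fixes σ α) →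
      ∃ f : Fin m → IrrCharacter S, f o = α ∧ InvU N (P : Subgroup G) (C.pc f) ∧ (∀ i, f i = triv S ∨ ∃ σ, f i = tw σ α) ∧
        Mem M (C.pc f) ∧ C.pc f ≠ triv ↥N := fun α h1 h2 h4 => by
    obtain ⟨f, h5, h6, h7⟩ := C.exists_inv _ o h4
    refine ⟨f, h5, h6, fun i => (h7 i).imp_right fun ⟨_, _, _, e⟩ => ⟨_, e⟩, (C.mem_pc_iff hM).2 fun i => ?_, fun e => ?_⟩
    · rcases h7 i with e | ⟨g, -, -, e⟩ <;> rw [e]
      · exact mem_triv hM
      · exact mem_tw hM _ h1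
    · rw [← C.pc_triv] at e
      exact nontriv_iff.1 h2 (h5.symm.trans (congrFun (C.pc_injective e) o))
  rcases R.inv M hM S hS hna h3 trivial _ (C.isPGroup_ind P.2 o) with ⟨α, β, a1, b1, a2, b2, hab', h4⟩ | ⟨⟨α, a1, a2, a3, σ₀, a4⟩, h4⟩
  · obtain ⟨f, f1, f2, f3, f4, f5⟩ := key α a1 a2 fun σ hσ => (h4 σ hσ).1
    obtain ⟨g, g1, g2, -, g4, g5⟩ := key β b1 b2 fun σ hσ => (h4 σ hσ).2
    have h5 := three_cc_le (M := M) (θ₁ := triv ↥N) (θ₂ := C.pc f) (θ₃ := C.pc g) (fun e => f5 e.eq_triv)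
      (fun e => g5 e.eq_triv) fun e => by
        obtain ⟨x, hx⟩ := C.gconj_iff.1 e
        have h6 := (hx o).trans g1
        rcases f3 (C.π x o) with e' | ⟨σ, e'⟩ <;> rw [e'] at h6
        · exact nontriv_iff.1 b2 h6.symm
        · exact hab' _ (tw_eq_iff.1 ((tw_mul _ _ _).trans h6))
    have h6 := three_le_cc hM P hP f4 (ext_perfect P (C.perfect hna) f4.2 f2)
    have h7 := three_le_cc hM P hP g4 (ext_perfect P (C.perfect hna) g4.2 g2)
    have h8 := h.six h9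
    have h10 := h.le9
    omega
  · obtain ⟨f, -, f2, f3, f4, f5⟩ := key α a1 a2 a3
    obtain ⟨T, hT, hNT⟩ := exists_inertia (C.pc f)
    have hPT : (P : Subgroup G) ≤ T := fun g hg => (hT g).2 (f2 g hg)
    obtain ⟨ψ, h5, h6⟩ := exists_ext_stab hna a4
    obtain ⟨η, h7, h8⟩ := C.exists_ext h5 h6 f3 hNT fun g hg => (hT g).1 hg
    refine h.of_six h9 f5 (six_le_cc hM P hT hNT hPT h9 ((mem_iff hM (P.subtype hPT) η).2 ⟨?_, fun x hx hx' => ?_⟩) h7)
    · rw [show charDegree (η : ↥T → ℂ) = charDegree (C.pc f : ↥N → ℂ) from congrArg (fun z : ℂ => ⌊z.re⌋₊) (h7 1)]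
      exact f4.2
    · have h10 : (x : G) ∈ Subgroup.centralizer ((P : Subgroup G) : Set G) := Subgroup.mem_centralizer_iff.2 fun y hy =>
        congrArg Subtype.val (Subgroup.mem_centralizer_iff.1 hx ⟨y, hPT hy⟩ hy)
      have h11 : ∀ i, C.π x i = i ∧ C.a x i = 1 := fun i => by
        obtain ⟨Q, -, hQ⟩ := C.cent h3 P i
        refine ⟨(hQ x h10).1, h4 Q _ (fun e => hx' (e.trans (orderOf_dvd_of_pow_eq_one ?_))) (hQ x h10).2⟩
        rw [← C.a_pow (hQ x h10).1, ← Subgroup.coe_pow, pow_orderOf_eq_one, OneMemClass.coe_one, C.a_one]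
      rw [h8 x (fun i => (h11 i).1) fun i => (h11 i).2, sub_self]
      exact memLocalIdeal_zero

end Cfsg.Agent.KZ.Red
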