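import Cfsg.Agent.KZ.Red.U
import Cfsg.Agent.Transfer.TausskyTwoGroup
import Cfsg.Agent.S4924

/-!
# KZ: the final assembly for the prime `3` (helper40)
-/

set_option autoImplicit false

namespace Cfsg.Agent.KZ.Res

open Cfsg Cfsg.Agent.KZ.Tool Cfsg.Agent.KZ.Red

universe u

attribute [local instance] factThree

/-- the dichotomy in universe `0` -/
def AllDich : Prop := ∀ (M : Ideal AlgInt), IsPModular 3 M → ∀ (G : Type) [Group G] [Finite G], Dich M G

variable {M : Ideal AlgInt} {G : Type u} [Group G] [Finite G]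

theorem dich_all (h : AllDich) (hM : IsPModular 3 M) : Dich M G := by
  let e : Shrink.{0} G ≃* G := Shrink.mulEquiv
  have : Finite (Shrink.{0} G) := Finite.of_equiv _ e.symm.toEquiv
  intro P
  obtain ⟨Q⟩ : Nonempty (Sylow 3 (Shrink.{0} G)) := inferInstance
  rw [← nab_equiv e Q P, ← k0_congr hM e]
  exact h M hM _ Q

/-- a `p`-group with an abelianization of order less than `p ^ 2` has order `1` or `p` -/
theorem index_comm_cases {p : ℕ} [hp : Fact p.Prime] (hG : IsPGroup p G) :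
    p ^ 2 ∣ (commutator G).index ∨ ((commutator G).index = 1 ∧ Nat.card G = 1) ∨
      ((commutator G).index = p ∧ Nat.card G = p) := by
  have : Group.IsNilpotent G := hG.isNilpotent
  obtain ⟨j, hj⟩ := IsPGroup.iff_card.1 (hG.to_quotient (commutator G))
  have h0 : IsCyclic (G ⧸ commutator G) → (commutator G).index = Nat.card G := fun h => by
    rw [Transfer.TausskyTwoGroup.commutator_eq_bot_of_isCyclic_quotient h, Subgroup.index_bot]
  rcases j with _ | _ | j
  · rw [pow_zero] at hj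
    have := (Nat.card_eq_one_iff_unique.1 hj).1
    exact .inr (.inl ⟨hj, (h0 inferInstance).symm.trans hj⟩)
  · rw [zero_add, pow_one] at hj
    exact .inr (.inr ⟨hj, (h0 (isCyclic_of_prime_card (p := p) hj)).symm.trans hj⟩)
  · exact .inl (by rw [Subgroup.index, hj]; exact pow_dvd_pow p (by omega))

theorem not_dvd_of_sylow {p : ℕ} [Fact p.Prime] (P : Sylow p G) (h : Nat.card ↥(P : Subgroup G) = 1) :
    ¬ p ∣ Nat.card G := by
  rw [← (P : Subgroup G).card_mul_index, h, one_mul]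
  exact P.not_dvd_index

/-- the four cases -/
theorem nab_cases (h : AllDich) (hM : IsPModular 3 M) (P : Sylow 3 G) :
    (nab P = 1 ∧ k0 M G = 1) ∨ (nab P = 3 ∧ k0 M G = 3) ∨ (nab P = 9 ∧ (k0 M G = 6 ∨ k0 M G = 9)) ∨
      (27 ≤ nab P ∧ 10 ≤ k0 M G) := by
  obtain ⟨h1, h2⟩ := dich_all h hM P
  rcases index_comm_cases P.2 with h3 | h3 | h3
  · by_cases h4 : nab P = 9
    · have h5 : 9 ∣ Nat.card G := (h4 ▸ nab_dvd P).trans (Subgroup.card_subgroup_dvd_card _)
      have h6 := six_le_k0 hM h5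
      have h7 := three_dvd_k0 hM ((by norm_num : 3 ∣ 9).trans h5)
      have h8 := h1 h4
      exact .inr (.inr (.inl ⟨h4, by omega⟩))
    · obtain ⟨k, hk⟩ := nab_pow P
      have h5 : 27 ≤ nab P := by
        change 3 ^ 2 ∣ nab P at h3
        rw [hk] at h3 h4 ⊢
        have h6 := (Nat.pow_dvd_pow_iff_le_right (by norm_num)).1 h3
        have h7 : k ≠ 2 := fun e => h4 (by rw [e]; rfl)
        exact Nat.pow_le_pow_right (n := 3) (i := 3) (by norm_num) (by omega)
      exact .inr (.inr (.inr ⟨h5, h2 h5⟩))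
  · exact .inl ⟨h3.1, H774.K0.k0_eq_one hM (not_dvd_of_sylow P h3.2)⟩
  · exact .inr (.inl ⟨h3.1, (S4924.result 3 M hM P 3 (.inr rfl)).2 h3.2⟩)

theorem s4824_of (h : AllDich) (hM : IsPModular 3 M) (P : Sylow 3 G) : nab P = 9 ↔ k0 M G = 6 ∨ k0 M G = 9 := by
  have := nab_cases h hM P
  omega

theorem s4852_three (h : AllDich) (hM : IsPModular 3 M) (P : Sylow 3 G) : nab P ≤ 3 ^ 2 ↔ k0 M G ≤ 3 ^ 2 := by
  have := nab_cases h hM P
  omega

end Cfsg.Agent.KZ.Res
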