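import Cfsg.Agent.KZ.Red.CaseC
import Cfsg.Agent.S0000

/-!
# KZ: the reduction from the boxes (helper66)
-/

set_option autoImplicit false

namespace Cfsg.Agent.KZ.Red

open Cfsg

attribute [local instance] factThree

theorem all_of (R : Row fun S _ => IsKnownSimple' S) : All where
  up M hM A _ _ N h _ := R.up M hM A N h (have := h.simple; S0000.result)
  lo M hM A _ _ N h _ := R.lo M hM A N h (have := h.simple; S0000.result)
  two M hM S _ _ h1 h2 h3 _ := R.two M hM S h1 h2 h3 S0000.result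
  inv M hM S _ _ h1 h2 h3 _ := R.inv M hM S h1 h2 h3 S0000.result

theorem exists_min {G : Type} [Group G] [Finite G] {K : Subgroup G} (hK : K.Normal) (h : K ≠ ⊥) :
    ∃ N : Subgroup G, N.Normal ∧ N ≠ ⊥ ∧ N ≤ K ∧ ∀ L : Subgroup G, L.Normal → L ≤ N → L = ⊥ ∨ L = N := by
  obtain ⟨N, hNK, hN⟩ := exists_minimal_le_of_wellFoundedLT (fun N : Subgroup G => N.Normal ∧ N ≠ ⊥) K ⟨hK, h⟩
  exact ⟨N, hN.1.1, hN.1.2, hNK, fun L h1 h2 => or_iff_not_imp_left.2 fun h3 => le_antisymm h2 (hN.2 ⟨h1, h3⟩ h2)⟩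

/-- (L) from the cases -/
theorem redL (hA : CaseA) (hB : CaseB) (hL : Local) (hK : SmallK) (R : All) {M : Ideal AlgInt} (hM : IsPModular 3 M) :
    ∀ (n : ℕ) (G : Type) [Group G] [Finite G], Nat.card G = n → ∀ P : Sylow 3 G, 27 ≤ nab P → 10 ≤ k0 M G := by
  intro n
  induction n using Nat.strong_induction_on with
  | _ n ih =>
  rintro G _ _ rfl P hP
  have ih' : ∀ (H : Type) [Group H] [Finite H], Nat.card H < Nat.card G → ∀ Q : Sylow 3 H, 27 ≤ nab Q → 10 ≤ k0 M H :=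
    fun H _ _ h => ih _ h H rfl
  by_contra h9
  have hc : ∀ K : Subgroup G, K.Normal → ¬ 3 ∣ Nat.card ↥K → K = ⊥ := fun K _ h3 => by_contra fun h0 => by
    refine h9 ((ih' _ (card_quot_lt h0) (P.mapSurjective (QuotientGroup.mk'_surjective K)) ?_).trans
      (k0_le_of_surj hM _ (QuotientGroup.mk'_surjective K)))
    rwa [nab_map _ _ fun x hx => ?_]
    obtain ⟨k, hk⟩ := IsPGroup.iff_orderOf.1 P.2 x
    have h1 : orderOf x ∣ Nat.card ↥K := by
      rw [← Subgroup.orderOf_coe]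
      exact Subgroup.orderOf_dvd_natCard K ((QuotientGroup.eq_one_iff _).1 hx)
    rw [orderOf_eq_one_iff.1 (Nat.eq_one_of_dvd_coprimes
      (Nat.Coprime.pow_left k ((Nat.Prime.coprime_iff_not_dvd Nat.prime_three).2 h3)) hk.dvd h1)]
    exact one_mem _
  obtain ⟨N, hN, h⟩ : ∃ N : Subgroup G, N.Normal ∧ Min M G P N := by
    by_cases h1 : ∀ K : Subgroup G, K.Normal → IsMulCommutative ↥K → K = ⊥
    · obtain ⟨N, h2, h3, -, h4⟩ := exists_min (K := (⊤ : Subgroup G)) inferInstance fun e => by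
        have h5 := Nat.le_of_dvd Nat.card_pos (nab_dvd P)
        rw [eq_bot_iff.2 (le_top.trans e.le : (P : Subgroup G) ≤ ⊥), Subgroup.card_bot] at h5
        omega
      exact ⟨N, h2, hM, hP, by omega, ih', hc, h3, h4, .inr h1⟩
    · obtain ⟨K, h1⟩ := not_forall.1 h1
      obtain ⟨h2, h1⟩ := Classical.not_imp.1 h1
      obtain ⟨h3, h1⟩ := Classical.not_imp.1 h1
      obtain ⟨N, h4, h5, h6, h7⟩ := exists_min h2 h1
      exact ⟨N, h4, hM, hP, by omega, ih', hc, h5, h7, .inl ⟨⟨fun a b =>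
        Subtype.ext (congrArg (fun x : ↥K => (x : G)) (h3.1.1 ⟨a, h6 a.2⟩ ⟨b, h6 b.2⟩))⟩⟩⟩
  by_cases h3 : 3 ∣ N.index
  · by_cases h4 : 9 ∣ N.index
    · exact caseC R M G P N h h4
    · exact hB R hK M G P N h h3 h4
  · exact hA R hL hK M G P N h h3

/-- **the reduction** -/
theorem boxRed_of (hU : RedU) (hA : CaseA) (hB : CaseB) (hL : Local) (hK : SmallK) : BoxRed :=
  fun R M hM G _ _ P => ⟨hU (all_of R) M hM G P, redL hA hB hL hK (all_of R) hM _ G rfl P⟩

end Cfsg.Agent.KZ.Red
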