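import Cfsg.Agent.KZ.Red.Cc
import Cfsg.Agent.H735.S4822.Prod
import Cfsg.Agent.PermutationGroups.OnanScott

/-!
# KZ: coordinates on a nonabelian minimal normal subgroup, product characters (helper66)
-/

set_option autoImplicit false

namespace Cfsg.Agent.KZ.Red

open Cfsg Cfsg.Agent.Characters.Core Cfsg.Agent.Blocks.Local Cfsg.Agent.KZ.Tool

universe u

/-- coordinates on `N ≅ S ^ m`, with the wreath action of `G` -/
structure Co {G : Type u} [Group G] (N : Subgroup G) [N.Normal] (S : Type u) [Group S] (m : ℕ) where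
  e : ↥N ≃* (Fin m → S)
  π : G →* Equiv.Perm (Fin m)
  a : G → Fin m → MulAut S
  conj : ∀ g n i, e (MulAut.conjNormal g n) (π g i) = a g i (e n i)
  trans : ∀ i j, ∃ g, π g i = j

variable {M : Ideal AlgInt} {G : Type u} [Group G] {N : Subgroup G} [N.Normal] {S : Type u} [Group S] {m : ℕ}

theorem exists_co [Finite G] (N : Subgroup G) [N.Normal] (hmin : ∀ K : Subgroup G, K.Normal → K ≤ N → K = ⊥ ∨ K = N)
    (hna : ¬ IsMulCommutative ↥N) : ∃ (S : Type u) (_ : Group S) (_ : Finite S) (m : ℕ), 0 < m ∧ IsSimpleGroup S ∧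
      ¬ IsMulCommutative S ∧ Nonempty (Co N S m) := by
  obtain ⟨m, T, e, hm, hsimple, hTna, hTinj, hTN, -, hconj, htrans, he, hc⟩ :=
    PermutationGroups.OnanScott.exists_coordinates N hmin fun h =>
      hna ⟨⟨fun x y => Subtype.ext (h x x.2 y y.2).eq⟩⟩
  let o : Fin m := ⟨0, hm⟩
  choose g hg using fun i => htrans o i
  choose f hf using hconj
  let act : MulAction G (Fin m) :=
    { smul := f
      one_smul := fun i => hTinj (by
        change T (f 1 i) = _
        rw [hf, Lib.MinNormal.map_conj_one])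
      mul_smul := fun x y i => hTinj (by
        change T (f (x * y) i) = T (f x (f y i))
        rw [hf, hf x, hf y, Lib.MinNormal.map_conj_map_conj]) }
  refine ⟨T o, inferInstance, inferInstance, m, hm, hsimple o, fun h => ?_, ⟨{
    e := e.trans (MulEquiv.piCongrRight fun i => (H713.conjIso (g i) (hg i)).symm)
    π := MulAction.toPermHom G (Fin m)
    a := fun x i => (H713.conjIso (g i) (hg i)).trans ((H713.conjIso x (hf x i)).trans
      (H713.conjIso (g (f x i)) (hg (f x i))).symm)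
    conj := fun x n i => ?_
    trans := fun i j => ?_ }⟩⟩
  · obtain ⟨a, b, hab⟩ := hTna o
    exact hab (h.1.1 a b)
  · change (H713.conjIso (g (f x i)) (hg (f x i))).symm (e (MulAut.conjNormal x n) (f x i)) =
      (H713.conjIso (g (f x i)) (hg (f x i))).symm (H713.conjIso x (hf x i)
        (H713.conjIso (g i) (hg i) ((H713.conjIso (g i) (hg i)).symm (e n i))))
    rw [MulEquiv.apply_symm_apply]
    exact congrArg _ (Subtype.ext (H713.coord_conj e hTN he hc x i _ (hf x i) n))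
  · obtain ⟨x, hx⟩ := htrans i j
    exact ⟨x, hTinj ((hf x i).trans hx.symm)⟩

/-- the twist of a character by an automorphism -/
def tw (σ : MulAut S) (α : IrrCharacter S) : IrrCharacter S :=
  ⟨(α : S → ℂ) ∘ σ.toMonoidHom, isIrr_comp _ σ.surjective α.2⟩

theorem tw_apply (σ : MulAut S) (α : IrrCharacter S) (s : S) : (tw σ α : S → ℂ) s = (α : S → ℂ) (σ s) := rfl

theorem tw_mul (σ τ : MulAut S) (α : IrrCharacter S) : tw (σ * τ) α = tw τ (tw σ α) := rfl

theorem tw_one (α : IrrCharacter S) : tw 1 α = α := rfl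

theorem tw_eq_iff {σ : MulAut S} {α β : IrrCharacter S} : tw σ α = β ↔ ∀ s, (α : S → ℂ) (σ s) = (β : S → ℂ) s :=
  ⟨fun h s => congrFun (congrArg Subtype.val h) s, fun h => Subtype.ext (funext h)⟩

theorem tw_triv [Finite S] (σ : MulAut S) : tw σ (triv S) = triv S := rfl

theorem tw_eq_triv [Finite S] {σ : MulAut S} {α : IrrCharacter S} : tw σ α = triv S ↔ α = triv S :=
  ⟨fun h => by rw [← tw_one α, ← mul_inv_cancel σ, tw_mul, h, tw_triv], fun h => by rw [h, tw_triv]⟩

theorem mem_tw (hM : IsPModular 3 M) (σ : MulAut S) {α : IrrCharacter S} (h : Mem M α) : Mem M (tw σ α) :=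
  mem_comp hM _ σ.surjective h

namespace Co

variable (C : Co N S m)

theorem a_mul (g h : G) (i : Fin m) : C.a (g * h) i = C.a g (C.π h i) * C.a h i := by
  refine MulEquiv.ext fun s => ?_
  obtain ⟨n, hn⟩ := C.e.surjective fun _ => s
  have h1 : C.e n i = s := congrFun hn i
  rw [MulAut.mul_apply, ← h1, ← C.conj, ← C.conj, ← C.conj, map_mul, map_mul]
  rfl

theorem a_one (i : Fin m) : C.a 1 i = 1 := by
  have h := C.a_mul 1 1 i
  rw [mul_one, map_one, Equiv.Perm.one_apply] at h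
  exact mul_eq_left.1 h.symm

theorem a_inv (g : G) (i : Fin m) : C.a g⁻¹ (C.π g i) = (C.a g i)⁻¹ :=
  eq_inv_of_mul_eq_one_left (by rw [← C.a_mul, inv_mul_cancel, C.a_one])

theorem a_pow {g : G} {i : Fin m} (h : C.π g i = i) (k : ℕ) : C.a (g ^ k) i = C.a g i ^ k := by
  induction k with
  | zero => rw [pow_zero, pow_zero, C.a_one]
  | succ k ih => rw [pow_succ, C.a_mul, h, ih, pow_succ]

/-- an element fixing a nontrivial element of the `i`-th factor fixes `i` -/
theorem fix_of {g : G} {i : Fin m} {s : S} (hs : s ≠ 1) {n : ↥N} (hn : C.e n = Pi.mulSingle i s)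
    (h : ∀ j, j ≠ i → C.e (MulAut.conjNormal g n) j = 1) : C.π g i = i := by
  by_contra h1
  have h2 := C.conj g n i
  rw [h _ h1, hn, Pi.mulSingle_eq_same, eq_comm, map_eq_one_iff _ (C.a g i).injective] at h2
  exact hs h2

theorem conj_mem (n x : ↥N) : C.e (MulAut.conjNormal (n : G) x) = C.e n * C.e x * (C.e n)⁻¹ := by
  rw [← map_mul, ← map_inv, ← map_mul]
  rfl

theorem π_mem [Nontrivial S] (n : ↥N) : C.π n = 1 := by
  obtain ⟨s, hs⟩ := exists_ne (1 : S)
  refine Equiv.ext fun i => C.fix_of hs (C.e.apply_symm_apply _) fun j hj => ?_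
  rw [C.conj_mem, MulEquiv.apply_symm_apply, Pi.mul_apply, Pi.mul_apply, Pi.mulSingle_eq_of_ne hj, mul_one, Pi.inv_apply,
    mul_inv_cancel]

theorem a_mem [Nontrivial S] (n : ↥N) (i : Fin m) : C.a n i = MulAut.conj (C.e n i) := by
  refine MulEquiv.ext fun s => ?_
  obtain ⟨x, hx⟩ := C.e.surjective fun _ => s
  have h1 := C.conj n x i
  rw [C.π_mem, C.conj_mem, hx] at h1
  exact h1.symm

include C in
theorem card_eq : Nat.card ↥N = Nat.card S ^ m := by
  rw [Nat.card_congr C.e.toEquiv, Nat.card_fun, Nat.card_eq_fintype_card (α := Fin m), Fintype.card_fin]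

include C in
theorem perfect [IsSimpleGroup S] (hna : ¬ IsMulCommutative S) [Finite S] (f : ↥N →* ℂˣ) : f = 1 := by
  have h1 : ∀ φ : S →* ℂˣ, ∀ s, φ s = 1 := fun φ s => by
    rcases φ.normal_ker.eq_bot_or_eq_top with h | h
    · exact absurd ⟨⟨fun a b => (MonoidHom.ker_eq_bot_iff φ).1 h (by rw [map_mul, map_mul, mul_comm])⟩⟩ hna
    · exact MonoidHom.mem_ker.1 (h ▸ Subgroup.mem_top s)
  refine MonoidHom.ext fun n => ?_
  have h2 := H663.GmnStep.hom_pi_apply (A := fun _ : Fin m => S) (f.comp C.e.symm.toMonoidHom) (C.e n)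
  simpa using h2.trans (Finset.prod_eq_one fun i _ =>
    h1 ((f.comp C.e.symm.toMonoidHom).comp (MonoidHom.mulSingle (fun _ => S) i)) _)

/-- the centralizer of a Sylow subgroup fixes every factor and centralizes a Sylow subgroup of it -/
theorem cent [Finite G] [Finite S] (h3 : 3 ∣ Nat.card S) (P : Sylow 3 G) (i : Fin m) : ∃ Q : Sylow 3 S,
    (∀ s ∈ (Q : Subgroup S), ((C.e.symm (Pi.mulSingle i s) : ↥N) : G) ∈ (P : Subgroup G)) ∧
    ∀ x ∈ Subgroup.centralizer ((P : Subgroup G) : Set G), C.π x i = i ∧ ∀ s ∈ (Q : Subgroup S), C.a x i s = s := by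
  have : Fact (Nat.Prime 3) := ⟨Nat.prime_three⟩
  obtain ⟨Q₀, hQ₀⟩ : ∃ Q₀ : Sylow 3 ↥N, (Q₀ : Subgroup ↥N) = (P : Subgroup G).subgroupOf N := by
    obtain ⟨Q₀, hQ₀⟩ := (P.2.comap_subtype (K := N)).exists_le_sylow
    obtain ⟨R, hR⟩ := (Q₀.2.map N.subtype).exists_le_sylow
    obtain ⟨g, rfl⟩ := MulAction.exists_smul_eq G P R
    refine ⟨Q₀, (Subgroup.eq_of_le_of_card_ge hQ₀ ?_).symm⟩
    refine Nat.card_le_card_of_injective (fun x => ⟨MulAut.conjNormal g⁻¹ x.1, ?_⟩) fun x y h => ?_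
    · have h1 : ((x.1 : ↥N) : G) ∈ ((g • P : Sylow 3 G) : Subgroup G) := hR ⟨x.1, x.2, rfl⟩
      rw [Sylow.coe_subgroup_smul, Subgroup.mem_pointwise_smul_iff_inv_smul_mem, ← map_inv] at h1
      exact h1
    · exact Subtype.ext ((MulAut.conjNormal g⁻¹).injective (congrArg Subtype.val h))
  obtain ⟨R, hR⟩ := H793.PC.exists_sylow_pi (A := fun _ : Fin m => S)
    (Q₀.mapSurjective (f := C.e.toMonoidHom) C.e.surjective)
  have h1 : ∀ s ∈ (R i : Subgroup S), ((C.e.symm (Pi.mulSingle i s) : ↥N) : G) ∈ (P : Subgroup G) := fun s hs => by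
    have h2 : (Pi.mulSingle i s : Fin m → S) ∈ (Subgroup.pi Set.univ fun i => (R i : Subgroup S)) := fun j _ => by
      by_cases hj : j = i
      · rw [hj, Pi.mulSingle_eq_same]; exact hs
      · rw [Pi.mulSingle_eq_of_ne hj]; exact (R j : Subgroup S).one_mem
    rw [← hR] at h2
    obtain ⟨y, hy, h3⟩ := h2
    rw [← h3]
    change ((C.e.symm (C.e y) : ↥N) : G) ∈ _
    rw [MulEquiv.symm_apply_apply]
    exact Subgroup.mem_subgroupOf.1 (hQ₀ ▸ hy)
  refine ⟨R i, h1, fun x hx => ?_⟩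
  have h2 : ∀ s ∈ (R i : Subgroup S), MulAut.conjNormal x (C.e.symm (Pi.mulSingle i s)) = C.e.symm (Pi.mulSingle i s) :=
    fun s hs => Subtype.ext (by
      rw [MulAut.conjNormal_apply, ← Subgroup.mem_centralizer_iff.1 hx _ (h1 s hs), mul_inv_cancel_right])
  have h4 : C.π x i = i := by
    obtain ⟨s, hs, hs1⟩ := (Subgroup.bot_or_exists_ne_one (R i : Subgroup S)).resolve_left ((R i).ne_bot_of_dvd_card h3)
    refine C.fix_of hs1 (C.e.apply_symm_apply _) fun j hj => ?_
    rw [h2 s hs, MulEquiv.apply_symm_apply, Pi.mulSingle_eq_of_ne hj]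
  refine ⟨h4, fun s hs => ?_⟩
  have h5 := C.conj x (C.e.symm (Pi.mulSingle i s)) i
  rw [h2 s hs, h4, MulEquiv.apply_symm_apply, Pi.mulSingle_eq_same] at h5
  exact h5.symm

variable [Finite S]

/-- the product character -/
noncomputable def pc (f : Fin m → IrrCharacter S) : IrrCharacter ↥N :=
  ⟨(fun x : Fin m → S => ∏ i, (f i : S → ℂ) (x i)) ∘ C.e.toMonoidHom,
    isIrr_comp _ C.e.surjective (H793.PC.isIrr_pi (A := fun _ : Fin m => S) fun i => (f i).2)⟩

theorem pc_apply (f : Fin m → IrrCharacter S) (n : ↥N) : (C.pc f : ↥N → ℂ) n = ∏ i, (f i : S → ℂ) (C.e n i) := rfl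

theorem pc_injective : Function.Injective C.pc := fun f f' h => by
  have h1 := H663.GmnStep.pi_unique (A := fun _ : Fin m => S) (fun i => (f i).2) (fun i => (f' i).2) fun x => by
    obtain ⟨n, rfl⟩ := C.e.surjective x
    exact congrFun (congrArg Subtype.val h) n
  exact funext fun i => Subtype.ext (congrFun h1 i)

theorem pc_surjective : Function.Surjective C.pc := fun θ => by
  obtain ⟨f, hf, h⟩ := H663.GmnStep.exists_pi_dep m (fun _ => S) _ (isIrr_comp C.e.symm.toMonoidHom C.e.symm.surjective θ.2)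
  refine ⟨fun i => ⟨f i, hf i⟩, Subtype.ext (funext fun n => ?_)⟩
  rw [pc_apply, ← h]
  simp

theorem pc_triv [Finite G] : C.pc (fun _ => triv S) = triv ↥N := Subtype.ext (funext fun _ => (C.pc_apply _ _).trans Finset.prod_const_one)

theorem charDegree_pc (f : Fin m → IrrCharacter S) :
    charDegree (C.pc f : ↥N → ℂ) = ∏ i, charDegree (f i : S → ℂ) :=
  H672.charDegree_of_eq (by
    rw [pc_apply, map_one, Nat.cast_prod]
    exact Finset.prod_congr rfl fun i _ => (H672.coe_charDegree (f i).2).symm)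

theorem mem_pc_iff (hM : IsPModular 3 M) {f : Fin m → IrrCharacter S} : Mem M (C.pc f) ↔ ∀ i, Mem M (f i) := by
  have := isPrime_of_isPModular hM
  constructor
  · refine fun h i => ⟨fun s => ?_, fun h1 => h.2 (by
      rw [charDegree_pc]
      exact h1.trans (Finset.dvd_prod_of_mem _ (Finset.mem_univ i)))⟩
    have h1 := H133.PB.mem_principalBlock_comp C.e.symm.toMonoidHom C.e.symm.surjective h.1 (Pi.mulSingle i s)
    have h2 : ∀ F : Fin m → S → ℂ, (∀ j, F j 1 ≠ 0) →
        centralChar (fun x : Fin m → S => ∏ j, F j (x j)) (Pi.mulSingle i s) = centralChar (F i) s := fun F hF => by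
      rw [H735.S4822.centralChar_pi (A := fun _ : Fin m => S), Finset.prod_eq_single i (fun j _ hj => ?_) (by simp),
        Pi.mulSingle_eq_same]
      rw [Pi.mulSingle_eq_of_ne hj, centralChar, mul_div_assoc, div_self (hF j), mul_one,
        Subgroup.centralizer_eq_top_iff_subset.2 (by simp), Subgroup.index_top, Nat.cast_one]
    rw [← h2 (fun _ _ => 1) fun _ => one_ne_zero, ← h2 (fun j => (f j : S → ℂ)) fun j => isIrr_apply_one_ne_zero (f j).2]
    convert h1 using 3
    · exact funext fun _ => Finset.prod_const_one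
    · funext x
      simp [pc_apply]
  · intro h
    have h0 := H133.PB.mem_principalBlock_comp C.e.toMonoidHom C.e.surjective
      (H735.S4822.pi_mem (A := fun _ : Fin m => S) f fun i => (h i).1)
    refine ⟨h0, fun h1 => ?_⟩
    rw [charDegree_pc] at h1
    obtain ⟨i, -, hi⟩ := (Nat.prime_three.prime.dvd_finsetProd_iff _).1 h1
    exact (h i).2 hi

theorem pc_conj (f : Fin m → IrrCharacter S) (g : G) (n : ↥N) :
    (C.pc f : ↥N → ℂ) (MulAut.conjNormal g n) = (C.pc fun i => tw (C.a g i) (f (C.π g i)) : ↥N → ℂ) n := by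
  rw [pc_apply, pc_apply, ← Equiv.prod_comp (C.π g)]
  exact Finset.prod_congr rfl fun i _ => by rw [C.conj, tw_apply]

theorem conj_iff {f f' : Fin m → IrrCharacter S} {g : G} :
    (∀ n, (C.pc f : ↥N → ℂ) (MulAut.conjNormal g n) = (C.pc f' : ↥N → ℂ) n) ↔
      ∀ i, tw (C.a g i) (f (C.π g i)) = f' i := by
  simp only [pc_conj]
  exact ⟨fun h => congrFun (C.pc_injective (Subtype.ext (funext h))), fun h n => by rw [funext h]⟩

theorem gconj_iff {f f' : Fin m → IrrCharacter S} :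
    GConj N (C.pc f) (C.pc f') ↔ ∃ g, ∀ i, tw (C.a g i) (f (C.π g i)) = f' i := exists_congr fun _ => C.conj_iff

theorem fixes_iff {f : Fin m → IrrCharacter S} {g : G} :
    Fixes (MulAut.conjNormal g : MulAut ↥N) (C.pc f) ↔ ∀ i, tw (C.a g i) (f (C.π g i)) = f i := C.conj_iff

omit [Finite S] in
/-- the automorphisms of the `o`-th factor induced by `H` -/
def ind (H : Subgroup G) (o : Fin m) : Subgroup (MulAut S) where
  carrier := {σ | ∃ g ∈ H, C.π g o = o ∧ C.a g o = σ}
  one_mem' := ⟨1, one_mem _, by rw [map_one]; rfl, C.a_one o⟩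
  mul_mem' := by
    rintro _ _ ⟨g, hg, h1, rfl⟩ ⟨h, hh, h2, rfl⟩
    exact ⟨g * h, mul_mem hg hh, by rw [map_mul, Equiv.Perm.mul_apply, h2, h1], by rw [C.a_mul, h2]⟩
  inv_mem' := by
    rintro _ ⟨g, hg, h1, rfl⟩
    exact ⟨g⁻¹, inv_mem hg, by rw [map_inv, Equiv.Perm.inv_eq_iff_eq, h1], by rw [← C.a_inv, h1]⟩

omit [Finite S] in
theorem isPGroup_ind {p : ℕ} {H : Subgroup G} (hH : IsPGroup p ↥H) (o : Fin m) : IsPGroup p ↥(C.ind H o) := by
  rintro ⟨_, g, hg, h1, rfl⟩
  obtain ⟨k, hk⟩ := hH ⟨g, hg⟩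
  refine ⟨k, Subtype.ext ?_⟩
  change C.a g o ^ p ^ k = 1
  rw [← C.a_pow h1, show g ^ p ^ k = 1 from congrArg Subtype.val hk, C.a_one]

/-- the transport of `α` along the orbit of `o` under `H` -/
theorem exists_inv (H : Subgroup G) (o : Fin m) {α : IrrCharacter S} (hα : ∀ σ ∈ C.ind H o, Fixes σ α) :
    ∃ f : Fin m → IrrCharacter S, f o = α ∧ InvU N H (C.pc f) ∧
      ∀ i, f i = triv S ∨ ∃ g ∈ H, C.π g i = o ∧ f i = tw (C.a g i) α := by
  classical
  have h1 : ∀ i, ∀ g ∈ H, ∀ h ∈ H, C.π g i = o → C.π h i = o → tw (C.a g i) α = tw (C.a h i) α := by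
    intro i g hg h hh e1 e2
    have e3 : C.π h⁻¹ o = i := by rw [map_inv, Equiv.Perm.inv_eq_iff_eq, e2]
    have h2 : tw (C.a (g * h⁻¹) o) α = α := tw_eq_iff.2 (hα _ ⟨g * h⁻¹, mul_mem hg (inv_mem hh), by
      rw [map_mul, Equiv.Perm.mul_apply, e3, e1], rfl⟩)
    rw [← inv_mul_cancel_right g h, C.a_mul, e2, tw_mul, h2]
  let f : Fin m → IrrCharacter S := fun i => if h : ∃ g ∈ H, C.π g i = o then tw (C.a h.choose i) α else triv S
  have h2 : ∀ i, ∀ g ∈ H, C.π g i = o → f i = tw (C.a g i) α := fun i g hg e => by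
    have h : ∃ g ∈ H, C.π g i = o := ⟨g, hg, e⟩
    exact (dif_pos h).trans (h1 i _ h.choose_spec.1 g hg h.choose_spec.2 e)
  refine ⟨f, by rw [h2 o 1 (one_mem _) (by rw [map_one]; rfl), C.a_one, tw_one], fun g hg => C.fixes_iff.2 fun i => ?_,
    fun i => ?_⟩
  · by_cases h : ∃ x ∈ H, C.π x (C.π g i) = o
    · obtain ⟨x, hx, e⟩ := h
      rw [h2 _ x hx e, h2 i (x * g) (mul_mem hx hg) (by rw [map_mul]; exact e), C.a_mul, tw_mul]
    · have h3 : ¬ ∃ x ∈ H, C.π x i = o := fun ⟨x, hx, e⟩ => h ⟨x * g⁻¹, mul_mem hx (inv_mem hg), by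
        rw [← Equiv.Perm.mul_apply, ← map_mul, inv_mul_cancel_right, e]⟩
      rw [show f (C.π g i) = triv S from dif_neg h, show f i = triv S from dif_neg h3, tw_triv]
  · by_cases h : ∃ g ∈ H, C.π g i = o
    · obtain ⟨g, hg, e⟩ := h
      exact .inr ⟨g, hg, e, h2 i g hg e⟩
    · exact .inl (dif_neg h)

end Co

end Cfsg.Agent.KZ.Red
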